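import Mathlib

/-!
Azumaya multiplications on a free module lift along square-zero ideals.
-/

set_option autoImplicit false
universe u v
set_option synthInstance.maxHeartbeats 400000
set_option maxSynthPendingDepth 4

open scoped TensorProduct

namespace Groth.Agent.H18AzLift

variable {ι : Type v} [Fintype ι] [DecidableEq ι] {B : Type u} [CommRing B]

/-- The multiplication with structure constants `c`. -/
noncomputable def mulOf (c : ι × ι × ι → B) : (ι → B) →ₗ[B] (ι → B) →ₗ[B] (ι → B) :=
  (Pi.basisFun B ι).constr B fun i => (Pi.basisFun B ι).constr B fun j => fun m => c (i, j, m)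

local notation "𝐛" => Pi.basisFun B ι

lemma mulOf_basis (c : ι × ι × ι → B) (i j : ι) :
    mulOf c (𝐛 i) (𝐛 j) = fun m => c (i, j, m) := by
  simp [mulOf]

lemma mulOf_apply (c : ι × ι × ι → B) (x y : ι → B) :
    mulOf c x y = ∑ i, ∑ j, (x i * y j) • fun m => c (i, j, m) := by
  simp [mulOf, Module.Basis.constr_apply_fintype, Finset.smul_sum, smul_smul]

/-- The matrix of the sandwich map `u ⊗ v ↦ (x ↦ (u x) v)`. -/
def sandMatrix (c : ι × ι × ι → B) : Matrix (ι × ι) (ι × ι) B :=
  Matrix.of fun yx ij => ∑ m, c (ij.1, yx.2, m) * c (m, ij.2, yx.1)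

lemma sandMatrix_map {B' : Type*} [CommRing B'] (f : B →+* B') (c : ι × ι × ι → B) :
    sandMatrix (f ∘ c) = (sandMatrix c).map f := by
  ext ⟨y, x⟩ ⟨i, j⟩
  simp [sandMatrix, map_sum, map_mul]

/-- The associator. -/
noncomputable def assoc (μ : (ι → B) →ₗ[B] (ι → B) →ₗ[B] (ι → B)) :
    (ι → B) →ₗ[B] (ι → B) →ₗ[B] (ι → B) →ₗ[B] (ι → B) :=
  μ.compr₂ μ - ((LinearMap.llcomp B (ι → B) (ι → B) (ι → B)).comp μ).compl₂ μ

@[simp] lemma assoc_apply (μ : (ι → B) →ₗ[B] (ι → B) →ₗ[B] (ι → B)) (a b c : ι → B) :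
    assoc μ a b c = μ (μ a b) c - μ a (μ b c) := rfl

/-- The sandwich map. -/
noncomputable def sand (μ : (ι → B) →ₗ[B] (ι → B) →ₗ[B] (ι → B)) :
    (ι → B) ⊗[B] (ι → B) →ₗ[B] Module.End B (ι → B) :=
  TensorProduct.lift (LinearMap.mk₂ B (fun u v => (μ.flip v).comp (μ u))
    (fun u u' v => by ext x; simp [map_add])
    (fun r u v => by ext x; simp [map_smul])
    (fun u v v' => by ext x; simp [map_add])
    (fun r u v => by ext x; simp [map_smul]))

@[simp] lemma sand_tmul (μ : (ι → B) →ₗ[B] (ι → B) →ₗ[B] (ι → B)) (u v x : ι → B) :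
    sand μ (u ⊗ₜ v) x = μ (μ u x) v := rfl

lemma toMatrix_sand (c : ι × ι × ι → B) :
    LinearMap.toMatrix ((𝐛).tensorProduct 𝐛) ((Matrix.stdBasis B ι ι).map LinearMap.toMatrix'.symm)
      (sand (mulOf c)) = sandMatrix c := by
  ext ⟨y, x⟩ ⟨i, j⟩
  rw [LinearMap.toMatrix_apply]
  simp only [Module.Basis.map_repr, LinearEquiv.trans_apply, LinearEquiv.symm_symm]
  show (LinearMap.toMatrix' _) y x = _
  rw [LinearMap.toMatrix'_apply]
  simp [mulOf_apply, Pi.single_apply, sandMatrix]

lemma sand_bijective (c : ι × ι × ι → B) (h : IsUnit (sandMatrix c).det) :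
    Function.Bijective (sand (mulOf c)) := by
  rw [← toMatrix_sand] at h
  exact (LinearEquiv.ofIsUnitDet h).bijective

variable (I : Ideal B)

local notation "IM" => (I • (⊤ : Submodule B (ι → B)))

lemma mem_IM_iff (x : ι → B) : x ∈ IM ↔ ∀ i, x i ∈ I := by
  constructor
  · intro h i
    refine Submodule.smul_induction_on h (fun r hr y _ => I.mul_mem_right _ hr) fun a b ha hb => ?_
    exact I.add_mem ha hb
  · intro h
    rw [← (𝐛).sum_repr x]
    exact Submodule.sum_mem _ fun i _ => Submodule.smul_mem_smul (by simpa using h i) trivial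

lemma map_IM (f : (ι → B) →ₗ[B] (ι → B)) {x : ι → B} (hx : x ∈ IM) : f x ∈ IM := by
  have : Submodule.map f IM ≤ IM := by
    rw [Submodule.map_smul'']
    exact Submodule.smul_mono le_rfl le_top
  exact this ⟨x, hx, rfl⟩

variable (hI : I ^ 2 = ⊥)

include hI in
lemma smul_IM {r : B} (hr : r ∈ I) {x : ι → B} (hx : x ∈ IM) : r • x = 0 := by
  funext i
  have : r * x i ∈ I ^ 2 := by rw [pow_two]; exact Ideal.mul_mem_mul hr ((mem_IM_iff I x).1 hx i)
  simpa [hI] using this

include hI in
lemma apply_IM_eq_zero {N : Type*} [AddCommGroup N] [Module B N] (f : N →ₗ[B] (ι → B))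
    (hf : ∀ x, f x ∈ IM) {x : N} (hx : x ∈ I • (⊤ : Submodule B N)) : f x = 0 := by
  refine Submodule.smul_induction_on hx (fun r hr y _ => ?_) fun a b ha hb => ?_
  · rw [map_smul, smul_IM I hI hr (hf y)]
  · rw [map_add, ha, hb, add_zero]

lemma lift_repr (G : (ι → B) →ₗ[B] (ι → B) →ₗ[B] (ι → B)) (t : (ι → B) ⊗[B] (ι → B)) :
    TensorProduct.lift G t =
      ∑ p : ι × ι, ((𝐛).tensorProduct 𝐛).repr t p • G (𝐛 p.1) (𝐛 p.2) := by
  conv_lhs => rw [← ((𝐛).tensorProduct 𝐛).sum_repr t]
  simp only [map_sum, map_smul, Module.Basis.tensorProduct_apply', TensorProduct.lift.tmul]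

/-- The conditions cutting out unital associative Azumaya multiplications. -/
structure Valid (o : ι) (c : ι × ι × ι → B) : Prop where
  one_mul : ∀ j m, c (o, j, m) = if j = m then 1 else 0
  mul_one : ∀ i m, c (i, o, m) = if i = m then 1 else 0
  assoc : ∀ i j k m, ∑ l, c (i, j, l) * c (l, k, m) - ∑ l, c (j, k, l) * c (i, l, m) = 0
  det : IsUnit (sandMatrix c).det

lemma assoc_basis (c : ι × ι × ι → B) (i j k m : ι) :
    assoc (mulOf c) (𝐛 i) (𝐛 j) (𝐛 k) m =
      ∑ l, c (i, j, l) * c (l, k, m) - ∑ l, c (j, k, l) * c (i, l, m) := by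
  simp [mulOf_apply, Pi.single_apply]

lemma one_mul_of (o : ι) (c : ι × ι × ι → B) (h : ∀ j m, c (o, j, m) = if j = m then 1 else 0)
    (x : ι → B) : mulOf c (𝐛 o) x = x := by
  funext m; simp [mulOf_apply, Pi.single_apply, ite_apply, h]

lemma mul_one_of (o : ι) (c : ι × ι × ι → B) (h : ∀ i m, c (i, o, m) = if i = m then 1 else 0)
    (x : ι → B) : mulOf c x (𝐛 o) = x := by
  funext m; simp [mulOf_apply, Pi.single_apply, ite_apply, h]

include hI in
/-- Lifting along a square-zero ideal. -/
theorem exists_valid_lift (o : ι) (c₀ : ι × ι × ι → B ⧸ I) (h₀ : Valid o c₀) :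
    ∃ c : ι × ι × ι → B, Valid o c ∧ Ideal.Quotient.mk I ∘ c = c₀ := by
  classical
  choose d hd using fun p => Ideal.Quotient.mk_surjective (I := I) (c₀ p)
  let c : ι × ι × ι → B := fun p =>
    if p.1 = o then (if p.2.1 = p.2.2 then 1 else 0)
    else if p.2.1 = o then (if p.1 = p.2.2 then 1 else 0) else d p
  have hc1 : ∀ j m, c (o, j, m) = if j = m then 1 else 0 := fun j m => by simp [c]
  have hc2 : ∀ i m, c (i, o, m) = if i = m then 1 else 0 := fun i m => by
    by_cases hi : i = o
    · subst hi; simp [c]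
    · simp [c, hi]
  have hc : Ideal.Quotient.mk I ∘ c = c₀ := by
    funext ⟨i, j, m⟩
    show Ideal.Quotient.mk I (c (i, j, m)) = _
    by_cases hi : i = o
    · subst hi; rw [hc1, h₀.one_mul]; split_ifs <;> simp
    · by_cases hj : j = o
      · subst hj; rw [hc2, h₀.mul_one]; split_ifs <;> simp
      · simp [c, hi, hj, hd]
  have hdet : ∀ c' : ι × ι × ι → B, Ideal.Quotient.mk I ∘ c' = c₀ → IsUnit (sandMatrix c').det := by
    intro c' hc'
    have h := h₀.det
    rw [← hc', sandMatrix_map, ← RingHom.mapMatrix_apply, ← RingHom.map_det] at h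
    exact (IsNilpotent.isUnit_quotient_mk_iff ⟨2, hI⟩).1 h
  let μ := mulOf c
  have hμ1 : ∀ x, μ (𝐛 o) x = x := one_mul_of o c hc1
  have hμ2 : ∀ x, μ x (𝐛 o) = x := mul_one_of o c hc2
  let Φ := assoc μ
  have hΦ : ∀ a b e, Φ a b e ∈ IM := by
    have hbasis : ∀ i j k, Φ (𝐛 i) (𝐛 j) (𝐛 k) ∈ IM := fun i j k => (mem_IM_iff I _).2 fun m => by
      rw [assoc_basis, ← Ideal.Quotient.eq_zero_iff_mem]
      simp only [map_sub, map_sum, map_mul]
      have := h₀.assoc i j k m
      rw [← hc] at this
      exact this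
    intro a b e
    rw [← (𝐛).sum_repr a, ← (𝐛).sum_repr b, ← (𝐛).sum_repr e]
    simp only [map_sum, map_smul, LinearMap.coe_sum, Finset.sum_apply, LinearMap.smul_apply]
    exact Submodule.sum_mem _ fun i _ => Submodule.smul_mem _ _
      (Submodule.sum_mem _ fun j _ => Submodule.smul_mem _ _
      (Submodule.sum_mem _ fun k _ => Submodule.smul_mem _ _ (hbasis _ _ _)))
  -- the separability element
  let S := LinearEquiv.ofBijective (sand μ) (sand_bijective c (hdet c hc))
  let e := S.symm ((LinearMap.proj o).smulRight (𝐛 o))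
  have hSe : ∀ x, sand μ e x = x o • 𝐛 o := fun x => by
    rw [show sand μ e = _ from S.apply_symm_apply _]; rfl
  let G : (ι → B) → (ι → B) → (ι → B) →ₗ[B] (ι → B) →ₗ[B] (ι → B) := fun a b =>
    (μ.compl₂ ((Φ.flip a).flip b))
  have hGv : ∀ a b u v, G a b u v = μ u (Φ v a b) := fun a b u v => rfl
  let h : (ι → B) →ₗ[B] (ι → B) →ₗ[B] (ι → B) :=
    ∑ p : ι × ι, ((𝐛).tensorProduct 𝐛).repr e p • (Φ (𝐛 p.2)).compr₂ (μ (𝐛 p.1))
  have hh : ∀ a b, h a b = TensorProduct.lift (G a b) e := fun a b => by
    rw [lift_repr]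
    simp only [h, LinearMap.coe_sum, Finset.sum_apply, LinearMap.smul_apply, hGv]
    rfl
  have hhI : ∀ a b, h a b ∈ IM := fun a b => by
    rw [hh, lift_repr]
    exact Submodule.sum_mem _ fun p _ => Submodule.smul_mem _ _ (by
      rw [hGv]; exact map_IM I (μ _) (hΦ _ _ _))
  have hGI : ∀ a b t, TensorProduct.lift (G a b) t ∈ IM := fun a b t => by
    rw [lift_repr]
    exact Submodule.sum_mem _ fun p _ => Submodule.smul_mem _ _ (by
      rw [hGv]; exact map_IM I (μ _) (hΦ _ _ _))
  -- `b u ⊗ v ≡ u ⊗ v b`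
  have hT : ∀ (b : ι → B), TensorProduct.map (μ b) LinearMap.id e -
      TensorProduct.map LinearMap.id (μ.flip b) e ∈ I • (⊤ : Submodule B ((ι → B) ⊗[B] (ι → B))) := by
    intro b
    let T := TensorProduct.map (μ b) LinearMap.id e - TensorProduct.map LinearMap.id (μ.flip b) e
    have h1 : ∀ t x, sand μ (TensorProduct.map (μ b) LinearMap.id t) x - μ b (sand μ t x) ∈ IM := by
      intro t x
      induction t using TensorProduct.induction_on with
      | zero => simp
      | tmul w z =>
        rw [TensorProduct.map_tmul, sand_tmul, sand_tmul, LinearMap.id_apply]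
        have : μ (μ (μ b w) x) z - μ b (μ (μ w x) z) = μ.flip z (Φ b w x) + Φ b (μ w x) z := by
          simp only [Φ, assoc_apply, LinearMap.flip_apply, map_sub, LinearMap.sub_apply]; abel
        rw [this]
        exact add_mem (map_IM I _ (hΦ _ _ _)) (hΦ _ _ _)
      | add s t hs ht =>
        simp only [map_add, LinearMap.add_apply, add_sub_add_comm]
        exact add_mem hs ht
    have h2 : ∀ t x, sand μ (TensorProduct.map LinearMap.id (μ.flip b) t) x - μ (sand μ t x) b ∈ IM := by
      intro t x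
      induction t using TensorProduct.induction_on with
      | zero => simp
      | tmul w z =>
        rw [TensorProduct.map_tmul, sand_tmul, sand_tmul, LinearMap.id_apply, LinearMap.flip_apply]
        have : μ (μ w x) (μ z b) - μ (μ (μ w x) z) b = -(Φ (μ w x) z b) := by simp [Φ]
        rw [this]
        exact neg_mem (hΦ _ _ _)
      | add s t hs ht =>
        simp only [map_add, LinearMap.add_apply, add_sub_add_comm]
        exact add_mem hs ht
    have hTx : ∀ x, sand μ T x ∈ IM := fun x => by
      have := sub_mem (h1 e x) (h2 e x)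
      rw [hSe, map_smul, map_smul, LinearMap.smul_apply, hμ1, hμ2, sub_sub_sub_cancel_right] at this
      simpa [T] using this
    have hE : sand μ T ∈ I • (⊤ : Submodule B (Module.End B (ι → B))) := by
      have : sand μ T = ∑ i, LinearMap.smulRightₗ (LinearMap.proj i : (ι → B) →ₗ[B] B) (sand μ T (𝐛 i)) := by
        refine (𝐛).ext fun k => ?_
        simp [Pi.single_apply]
      rw [this]
      refine Submodule.sum_mem _ fun i _ => ?_
      have hle : Submodule.map (LinearMap.smulRightₗ (LinearMap.proj i : (ι → B) →ₗ[B] B)) IM ≤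
          I • (⊤ : Submodule B (Module.End B (ι → B))) := by
        rw [Submodule.map_smul'']; exact Submodule.smul_mono le_rfl le_top
      exact hle ⟨_, hTx _, rfl⟩
    have hle : Submodule.map S.symm.toLinearMap (I • ⊤) ≤
        I • (⊤ : Submodule B ((ι → B) ⊗[B] (ι → B))) := by
      rw [Submodule.map_smul'']; exact Submodule.smul_mono le_rfl le_top
    have hmem := hle ⟨_, hE, rfl⟩
    change S.symm (sand μ T) ∈ _ at hmem
    rwa [show S.symm (sand μ T) = T from S.symm_apply_apply T] at hmem
  have hkill : ∀ (a : ι → B) {x : ι → B}, x ∈ IM → ∀ b, Φ a b x = 0 := fun a x hx b =>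
    apply_IM_eq_zero I hI (Φ a b) (hΦ a b) hx
  have hkill' : ∀ (a : ι → B) {x : ι → B}, x ∈ IM → ∀ b, Φ a x b = 0 := fun a x hx b =>
    apply_IM_eq_zero I hI ((Φ a).flip b) (fun y => hΦ a y b) hx
  -- the contraction
  have key : ∀ b p q, Φ b p q + h (μ b p) q + μ (h b p) q - h b (μ p q) - μ b (h p q) = 0 := by
    intro b p q
    have A1 : TensorProduct.lift (μ.compl₂ (μ.flip (Φ b p q))) e = Φ b p q := by
      have he : TensorProduct.lift μ e = 𝐛 o := by
        have h' : ∀ t, TensorProduct.lift μ t = sand μ t (𝐛 o) := fun t => by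
          induction t using TensorProduct.induction_on with
          | zero => simp
          | tmul w z => rw [TensorProduct.lift.tmul, sand_tmul, hμ2]
          | add s t hs ht => simp only [map_add, hs, ht, LinearMap.add_apply]
        rw [h', hSe]
        simp
      have h2 : ∀ t, TensorProduct.lift (μ.compl₂ (μ.flip (Φ b p q))) t =
          μ (TensorProduct.lift μ t) (Φ b p q) := fun t => by
        induction t using TensorProduct.induction_on with
        | zero => simp
        | tmul w z =>
          simp only [TensorProduct.lift.tmul, LinearMap.compl₂_apply, LinearMap.flip_apply]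
          exact (sub_eq_zero.1 ((assoc_apply μ w z _).symm.trans (hkill w (hΦ b p q) z))).symm
        | add s t hs ht => simp only [map_add, LinearMap.add_apply, hs, ht]
      rw [h2, he, hμ1]
    have A2 : TensorProduct.lift (G p q) (TensorProduct.map LinearMap.id (μ.flip b) e) =
        μ b (h p q) := by
      have hz := apply_IM_eq_zero I hI (TensorProduct.lift (G p q)) (hGI p q) (hT b)
      rw [map_sub, sub_eq_zero] at hz
      rw [← hz, hh]
      generalize e = t
      induction t using TensorProduct.induction_on with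
      | zero => simp
      | tmul w z =>
        simp only [TensorProduct.map_tmul, TensorProduct.lift.tmul, hGv, LinearMap.id_apply]
        exact sub_eq_zero.1 ((assoc_apply μ b w _).symm.trans (hkill b (hΦ z p q) w))
      | add s t hs ht => simp only [map_add, hs, ht]
    have A3 : TensorProduct.lift (μ.compl₂ ((μ.flip q).comp ((Φ.flip b).flip p))) e = μ (h b p) q := by
      rw [hh]
      generalize e = t
      induction t using TensorProduct.induction_on with
      | zero => simp
      | tmul w z =>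
        simp only [TensorProduct.lift.tmul, LinearMap.compl₂_apply, LinearMap.comp_apply,
          LinearMap.flip_apply, hGv]
        exact (sub_eq_zero.1 ((assoc_apply μ w _ q).symm.trans (hkill' w (hΦ z b p) q))).symm
      | add s t hs ht => simp only [map_add, LinearMap.add_apply, hs, ht]
    rw [hh (μ b p), hh b (μ p q), ← A1, ← A2, ← A3]
    generalize e = t
    induction t using TensorProduct.induction_on with
    | zero => simp
    | tmul w z =>
      simp only [TensorProduct.lift.tmul, TensorProduct.map_tmul, LinearMap.compl₂_apply,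
        LinearMap.comp_apply, LinearMap.flip_apply, LinearMap.id_apply, hGv]
      rw [← map_add (μ w), ← map_add (μ w), ← map_sub (μ w), ← map_sub (μ w)]
      convert map_zero (μ w)
      simp only [Φ, assoc_apply, map_sub, LinearMap.sub_apply]
      abel
    | add s t hs ht =>
      simp only [map_add]
      rw [show ∀ a a' b b' c c' d d' g g' : ι → B, (a + a') + (b + b') + (c + c') - (d + d') - (g + g') =
        (a + b + c - d - g) + (a' + b' + c' - d' - g') from fun _ _ _ _ _ _ _ _ _ _ => by abel, hs, ht,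
        add_zero]
  -- the corrected structure constants
  let c' : ι × ι × ι → B := fun p => c p + h (𝐛 p.1) (𝐛 p.2.1) p.2.2
  have hμ' : mulOf c' = μ + h := by
    refine (𝐛).ext fun i => (𝐛).ext fun j => ?_
    rw [LinearMap.add_apply, LinearMap.add_apply, mulOf_basis, mulOf_basis]
    rfl
  have hho : ∀ x, h (𝐛 o) x = 0 ∧ h x (𝐛 o) = 0 := fun x => by
    constructor <;>
    · rw [hh, lift_repr]
      refine Finset.sum_eq_zero fun p _ => ?_
      rw [hGv]
      simp only [Φ, assoc_apply, hμ1, hμ2, sub_self, map_zero, smul_zero]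
  have hc' : Ideal.Quotient.mk I ∘ c' = c₀ := by
    funext p
    rw [← hc]
    simp only [Function.comp_apply, c', map_add]
    rw [Ideal.Quotient.eq_zero_iff_mem.2 ((mem_IM_iff I _).1 (hhI _ _) _), add_zero]
  refine ⟨c', ⟨fun j m => ?_, fun i m => ?_, fun i j k m => ?_, hdet c' hc'⟩, hc'⟩
  · simp only [c', (hho (𝐛 j)).1, hc1]; simp
  · simp only [c', (hho (𝐛 i)).2, hc2]; simp
  · rw [← assoc_basis, hμ']
    have z1 : h (h (𝐛 i) (𝐛 j)) (𝐛 k) = 0 :=
      apply_IM_eq_zero I hI (h.flip (𝐛 k)) (fun y => hhI y _) (hhI _ _)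
    have z2 : h (𝐛 i) (h (𝐛 j) (𝐛 k)) = 0 :=
      apply_IM_eq_zero I hI (h (𝐛 i)) (fun y => hhI _ y) (hhI _ _)
    have := congrFun (key (𝐛 i) (𝐛 j) (𝐛 k)) m
    rw [Pi.zero_apply] at this
    rw [← this]
    simp only [Φ, assoc_apply, LinearMap.add_apply, map_add, z1, z2, Pi.add_apply, Pi.sub_apply,
      Pi.zero_apply]
    ring

end Groth.Agent.H18AzLift
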