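import Groth.Agent.H18AzLift.Smooth
import Groth.Agent.H9Hens.SchemeSections
import Groth.Agent.H18Az.Criterion

/-!
Central simple algebras lift to Azumaya algebras over henselian local rings.
-/

set_option autoImplicit false
set_option maxSynthPendingDepth 4
set_option synthInstance.maxHeartbeats 200000
universe u

open scoped TensorProduct

namespace Groth.Agent.H18AzLift

variable {ι : Type u} [Fintype ι] [DecidableEq ι] {R : Type u} [CommRing R] {o : ι}
  {c : ι × ι × ι → R}

lemma assoc_eq_zero (hc : Valid o c) (a b e : ι → R) : assoc (mulOf c) a b e = 0 := by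
  have h : assoc (mulOf c) = 0 := (Pi.basisFun R ι).ext fun i => (Pi.basisFun R ι).ext fun j =>
    (Pi.basisFun R ι).ext fun k => funext fun m => by
      rw [assoc_basis]
      exact hc.assoc i j k m
  rw [h]; rfl

/-- The algebra with structure constants `c`. -/
def AzAlg (_ : Valid o c) : Type u := ι → R

variable (hc : Valid o c)

noncomputable instance : AddCommGroup (AzAlg hc) := inferInstanceAs (AddCommGroup (ι → R))
noncomputable instance : Module R (AzAlg hc) := inferInstanceAs (Module R (ι → R))
instance : Module.Free R (AzAlg hc) := inferInstanceAs (Module.Free R (ι → R))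
instance : Module.Finite R (AzAlg hc) := inferInstanceAs (Module.Finite R (ι → R))

/-- Coordinates. -/
noncomputable def coord : AzAlg hc ≃ₗ[R] (ι → R) := LinearEquiv.refl R _

noncomputable instance : Ring (AzAlg hc) :=
  { (inferInstance : AddCommGroup (AzAlg hc)) with
    mul := fun x y => (coord hc).symm (mulOf c (coord hc x) (coord hc y))
    one := (coord hc).symm (Pi.basisFun R ι o)
    mul_assoc := fun x y z => by
      have h := assoc_eq_zero hc (coord hc x) (coord hc y) (coord hc z)
      rw [assoc_apply, sub_eq_zero] at h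
      exact h
    one_mul := fun x => one_mul_of o c hc.one_mul _
    mul_one := fun x => mul_one_of o c hc.mul_one _
    left_distrib := fun x y z => map_add (mulOf c (coord hc x)) _ _
    right_distrib := fun x y z => LinearMap.map_add₂ (mulOf c) _ _ _
    zero_mul := fun x => LinearMap.map_zero₂ (mulOf c) _
    mul_zero := fun x => map_zero (mulOf c (coord hc x)) }

lemma mul_def' (x y : AzAlg hc) :
    x * y = (coord hc).symm (mulOf c (coord hc x) (coord hc y)) := rfl

noncomputable instance : Algebra R (AzAlg hc) :=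
  Algebra.ofModule (fun r x y => LinearMap.map_smul₂ (mulOf c) r _ _)
    (fun r x y => map_smul (mulOf c (coord hc x)) r _)

theorem isAzumaya : IsAzumaya R (AzAlg hc) := by
  haveI : FaithfulSMul R (AzAlg hc) := ⟨fun {r s} h => by
    have := congrFun (congrArg (coord hc) (h ((coord hc).symm (Pi.basisFun R ι o)))) o
    simpa using this⟩
  refine { bij := ?_ }
  let g : (ι → R) ⊗[R] (ι → R) ≃ₗ[R] AzAlg hc ⊗[R] (AzAlg hc)ᵐᵒᵖ :=
    TensorProduct.congr (coord hc).symm ((coord hc).symm.trans (MulOpposite.opLinearEquiv R))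
  have h : ∀ t, (AlgHom.mulLeftRight R (AzAlg hc) (g t)) =
      (coord hc).symm.conj (sand (mulOf c) t) := by
    intro t
    induction t using TensorProduct.induction_on with
    | zero => simp
    | tmul a b =>
      refine LinearMap.ext fun x => ?_
      rw [show g (a ⊗ₜ b) = (coord hc).symm a ⊗ₜ MulOpposite.op ((coord hc).symm b) from rfl,
        AlgHom.mulLeftRight_apply]
      rfl
    | add s t hs ht => simp only [map_add, hs, ht]
  have hb : Function.Bijective fun t => AlgHom.mulLeftRight R (AzAlg hc) (g t) := by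
    simp only [h]
    exact (coord hc).symm.conj.bijective.comp (sand_bijective c hc.det)
  exact (Function.Bijective.of_comp_iff _ g.bijective).1 hb

theorem exists_lift (R : Type u) [CommRing R] [HenselianLocalRing R] (A₀ : Type u) [Ring A₀]
    [Algebra (IsLocalRing.ResidueField R) A₀] [Algebra.IsCentral (IsLocalRing.ResidueField R) A₀]
    [IsSimpleRing A₀] [FiniteDimensional (IsLocalRing.ResidueField R) A₀] :
    ∃ (A : Type u) (_ : Ring A) (_ : Algebra R A), IsAzumaya R A ∧
      Nonempty ((IsLocalRing.ResidueField R ⊗[R] A) ≃ₐ[IsLocalRing.ResidueField R] A₀) := by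
  classical
  let k := IsLocalRing.ResidueField R
  haveI : IsAzumaya k A₀ := (_root_.H18Az.Criterion.isAzumaya_field_iff k A₀).2 ⟨inferInstance, inferInstance⟩
  have hli : LinearIndepOn k id ({1} : Set A₀) := LinearIndepOn.singleton (v := id) one_ne_zero
  let b₀ := Module.Basis.extend hli
  let κ := ↥(hli.extend (Set.subset_univ _))
  haveI : Fintype κ := FiniteDimensional.fintypeBasisIndex b₀
  let o : κ := ⟨1, hli.subset_extend _ rfl⟩
  have ho : b₀ o = 1 := Module.Basis.extend_apply_self hli o
  let c₀ : κ × κ × κ → k := fun p => b₀.repr (b₀ p.1 * b₀ p.2.1) p.2.2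
  let E : (κ → k) ≃ₗ[k] A₀ := b₀.equivFun.symm
  have hEb : ∀ i, E (Pi.basisFun k κ i) = b₀ i := fun i => by
    simp [E, Module.Basis.equivFun_symm_apply, Pi.single_apply]
  have hmul : ∀ x y, E (mulOf c₀ x y) = E x * E y := by
    have : (mulOf c₀).compr₂ E.toLinearMap = (LinearMap.mul k A₀).compl₁₂ E.toLinearMap E.toLinearMap := by
      refine (Pi.basisFun k κ).ext fun i => (Pi.basisFun k κ).ext fun j => ?_
      show E (mulOf c₀ _ _) = E _ * E _
      rw [mulOf_basis, hEb, hEb]
      exact b₀.equivFun.symm_apply_apply (b₀ i * b₀ j)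
    exact fun x y => LinearMap.congr_fun₂ this x y
  have hc₀ : Valid o c₀ := by
    refine ⟨fun j m => ?_, fun i m => ?_, fun i j l m => ?_, ?_⟩
    · simp [c₀, ho, Finsupp.single_apply]
    · simp [c₀, ho, Finsupp.single_apply]
    · rw [← assoc_basis]
      have : assoc (mulOf c₀) (Pi.basisFun k κ i) (Pi.basisFun k κ j) (Pi.basisFun k κ l) = 0 := by
        apply E.injective
        rw [assoc_apply, map_sub, hmul, hmul, hmul, hmul, map_zero, mul_assoc, sub_self]
      rw [this]; rfl
    · let g : (κ → k) ⊗[k] (κ → k) ≃ₗ[k] A₀ ⊗[k] A₀ᵐᵒᵖ :=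
        TensorProduct.congr E (E.trans (MulOpposite.opLinearEquiv k))
      have h : ∀ t, E.conj (sand (mulOf c₀) t) = AlgHom.mulLeftRight k A₀ (g t) := by
        intro t
        induction t using TensorProduct.induction_on with
        | zero => simp
        | tmul x y =>
          refine LinearMap.ext fun z => ?_
          rw [show g (x ⊗ₜ y) = E x ⊗ₜ MulOpposite.op (E y) from rfl, AlgHom.mulLeftRight_apply,
            LinearEquiv.conj_apply_apply, sand_tmul, hmul, hmul, LinearEquiv.apply_symm_apply,
            MulOpposite.unop_op]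
        | add s t hs ht => simp only [map_add, hs, ht]
      have hb : Function.Bijective (sand (mulOf c₀)) := by
        refine (Function.Bijective.of_comp_iff' E.conj.bijective _).1 ?_
        rw [show E.conj ∘ sand (mulOf c₀) = (AlgHom.mulLeftRight k A₀) ∘ g from funext h]
        exact IsAzumaya.bij.comp g.bijective
      rw [← toMatrix_sand]
      exact LinearEquiv.isUnit_det (LinearEquiv.ofBijective _ hb) _ _
  haveI : HenselianRing R (IsLocalRing.maximalIdeal R) := H9Hens.henselianRing_maximalIdeal R
  obtain ⟨c, hc, hcc⟩ := exists_valid_henselian (IsLocalRing.maximalIdeal R) o c₀ hc₀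
  refine ⟨AzAlg hc, inferInstance, inferInstance, isAzumaya hc, ?_⟩
  letI : Algebra R A₀ := Algebra.compHom A₀ (algebraMap R k)
  haveI : IsScalarTower R k A₀ := IsScalarTower.of_algebraMap_eq fun _ => rfl
  let ψl : AzAlg hc →ₗ[R] A₀ :=
    (E.toLinearMap.restrictScalars R).comp
      ((LinearMap.compLeft (Algebra.linearMap R k) κ).comp (coord hc).toLinearMap)
  have hψb : ∀ i, ψl ((coord hc).symm (Pi.basisFun R κ i)) = b₀ i := fun i => by
    rw [← hEb]
    simp only [ψl, LinearMap.comp_apply, LinearMap.restrictScalars_apply, LinearEquiv.coe_coe,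
      LinearEquiv.apply_symm_apply]
    congr 1
    funext l
    simp [Pi.single_apply, apply_ite (algebraMap R k)]
  have hψmul : ∀ x y, ψl (x * y) = ψl x * ψl y := by
    intro x y
    rw [mul_def']
    simp only [ψl, LinearMap.comp_apply, LinearMap.restrictScalars_apply, LinearEquiv.coe_coe,
      LinearEquiv.apply_symm_apply]
    rw [← hmul]
    congr 1
    funext m
    simp only [LinearMap.compLeft_apply, Function.comp_apply, Algebra.linearMap_apply, mulOf_apply,
      Finset.sum_apply, Pi.smul_apply, smul_eq_mul, map_sum, map_mul]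
    refine Finset.sum_congr rfl fun i _ => Finset.sum_congr rfl fun j _ => ?_
    rw [← congrFun hcc (i, j, m)]
    rfl
  let ψ : AzAlg hc →ₐ[R] A₀ := AlgHom.ofLinearMap ψl ((hψb o).trans ho) hψmul
  let Ψ : k ⊗[R] AzAlg hc →ₐ[k] A₀ :=
    Algebra.TensorProduct.lift (Algebra.ofId k A₀) ψ fun x y => Algebra.commutes x (ψ y)
  let bA := (Algebra.TensorProduct.basis k ((Pi.basisFun R κ).map (coord hc).symm))
  have hΨ : Ψ.toLinearMap = (bA.equiv b₀ (Equiv.refl κ)).toLinearMap := by
    refine bA.ext fun i => ?_
    simp only [AlgHom.toLinearMap_apply, LinearEquiv.coe_coe, Module.Basis.equiv_apply,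
      Equiv.refl_apply]
    rw [← hψb i]
    simp [bA, Ψ, ψ]
  exact ⟨AlgEquiv.ofBijective Ψ (by
    rw [show ⇑Ψ = ⇑(bA.equiv b₀ (Equiv.refl κ)) from congrArg DFunLike.coe hΨ]
    exact LinearEquiv.bijective _)⟩

end Groth.Agent.H18AzLift
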