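import Groth.Agent.H18AzLift.Deform
import Groth.Agent.H9Hens.Newton

/-!
The scheme of Azumaya structure constants is smooth; lifting over henselian pairs.
-/

set_option autoImplicit false
universe u

open MvPolynomial

namespace Groth.Agent.H18AzLift

variable {ι : Type u} [Fintype ι] [DecidableEq ι] (R : Type u) [CommRing R] (o : ι)

/-- The generic structure constants. -/
noncomputable def gen : ι × ι × ι → MvPolynomial (ι × ι × ι) R := X

/-- Relations. -/
noncomputable def rels : (ι × ι) ⊕ (ι × ι) ⊕ (ι × ι × ι × ι) → MvPolynomial (ι × ι × ι) R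
  | .inl (j, m) => gen R (o, j, m) - if j = m then 1 else 0
  | .inr (.inl (i, m)) => gen R (i, o, m) - if i = m then 1 else 0
  | .inr (.inr (i, j, k, m)) =>
      ∑ l, gen R (i, j, l) * gen R (l, k, m) - ∑ l, gen R (j, k, l) * gen R (i, l, m)

/-- Coordinate ring of associative unital structures. -/
abbrev Assoc : Type u :=
  MvPolynomial (ι × ι × ι) R ⧸ Ideal.span (Set.range (rels R o))

noncomputable def δ : Assoc R o :=
  (sandMatrix fun p => Ideal.Quotient.mk (Ideal.span (Set.range (rels R o))) (gen R p)).det

/-- Coordinate ring of Azumaya structures. -/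
abbrev AzRing : Type u := Localization.Away (δ R o)

instance : Algebra.FinitePresentation R (Assoc R o) :=
  Algebra.FinitePresentation.quotient (Submodule.fg_span (Set.finite_range _))

instance : Algebra.FinitePresentation R (AzRing R o) :=
  Algebra.FinitePresentation.trans R (Assoc R o) (AzRing R o)

variable {R o}
variable {B : Type u} [CommRing B] [Algebra R B]

lemma map_δ {B' : Type u} [CommRing B'] (φ : Assoc R o →+* B') :
    φ (δ R o) = (sandMatrix fun p =>
      φ (Ideal.Quotient.mk (Ideal.span (Set.range (rels R o))) (gen R p))).det := by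
  unfold δ
  rw [RingHom.map_det, RingHom.mapMatrix_apply, ← sandMatrix_map]
  rfl

/-- The structure constants of a point. -/
noncomputable def pointOf (f : AzRing R o →ₐ[R] B) : ι × ι × ι → B := fun p =>
  f (algebraMap (Assoc R o) _ (Ideal.Quotient.mk _ (gen R p)))

lemma pointOf_valid (f : AzRing R o →ₐ[R] B) : Valid o (pointOf f) := by
  let g : MvPolynomial (ι × ι × ι) R →+* B :=
    f.toRingHom.comp ((algebraMap (Assoc R o) (AzRing R o)).comp
      (Ideal.Quotient.mk (Ideal.span (Set.range (rels R o)))))
  have hg : ∀ r, g (rels R o r) = 0 := fun r => by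
    show f (algebraMap (Assoc R o) (AzRing R o)
      (Ideal.Quotient.mk (Ideal.span (Set.range (rels R o))) (rels R o r))) = 0
    rw [Ideal.Quotient.eq_zero_iff_mem.2 (Ideal.subset_span (Set.mem_range_self r)), map_zero, map_zero]
  have hp : ∀ p, pointOf f p = g (gen R p) := fun _ => rfl
  refine ⟨fun j m => ?_, fun i m => ?_, fun i j k m => ?_, ?_⟩
  · have := hg (.inl (j, m))
    simp only [rels, map_sub, sub_eq_zero] at this
    rw [hp, this]; split_ifs <;> simp
  · have := hg (.inr (.inl (i, m)))
    simp only [rels, map_sub, sub_eq_zero] at this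
    rw [hp, this]; split_ifs <;> simp
  · have := hg (.inr (.inr (i, j, k, m)))
    simpa only [rels, map_sub, map_sum, map_mul, ← hp] using this
  · have h := (IsLocalization.Away.algebraMap_isUnit (δ R o) (S := AzRing R o)).map f.toRingHom
    change IsUnit ((f.toRingHom.comp (algebraMap (Assoc R o) (AzRing R o))) (δ R o)) at h
    rw [map_δ] at h
    exact h

/-- The point with given structure constants. -/
noncomputable def ofValid {c : ι × ι × ι → B} (hc : Valid o c) : AzRing R o →ₐ[R] B :=
  let f₁ : Assoc R o →ₐ[R] B := Ideal.Quotient.liftₐ _ (aeval c) (by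
    intro a ha
    have : Ideal.span (Set.range (rels R o)) ≤ RingHom.ker (aeval c) := by
      rw [Ideal.span_le]
      rintro _ ⟨r, rfl⟩
      rcases r with ⟨j, m⟩ | ⟨i, m⟩ | ⟨i, j, k, m⟩ <;>
        simp only [SetLike.mem_coe, RingHom.mem_ker, rels, gen, map_sub, map_sum, map_mul, aeval_X]
      · rw [hc.one_mul]; split_ifs <;> simp
      · rw [hc.mul_one]; split_ifs <;> simp
      · exact hc.assoc i j k m
    exact this ha)
  IsLocalization.liftAlgHom (M := Submonoid.powers (δ R o)) (S := AzRing R o) (f := f₁) (by
    rintro ⟨_, n, rfl⟩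
    rw [map_pow]
    refine IsUnit.pow n ?_
    have h := hc.det
    have : f₁ (δ R o) = (sandMatrix c).det := by
      show f₁.toRingHom (δ R o) = _
      rw [map_δ]
      congr 2
      funext p
      simp [f₁, gen]
    rw [this]; exact h)

lemma pointOf_ofValid {c : ι × ι × ι → B} (hc : Valid o c) : pointOf (ofValid (R := R) hc) = c := by
  funext p
  simp [pointOf, ofValid, gen]

lemma algHom_ext_point {f g : AzRing R o →ₐ[R] B} (h : pointOf f = pointOf g) : f = g := by
  apply IsLocalization.algHom_ext (Submonoid.powers (δ R o))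
  refine Ideal.Quotient.algHom_ext R ?_
  ext p
  exact congrFun h p

instance : Algebra.Smooth R (AzRing R o) where
  formallySmooth := Algebra.FormallySmooth.of_comp_surjective fun B _ _ I hI f => by
    obtain ⟨c, hc, hcf⟩ := exists_valid_lift I hI o (pointOf f) (pointOf_valid f)
    refine ⟨ofValid hc, algHom_ext_point ?_⟩
    rw [← hcf]
    funext p
    show Ideal.Quotient.mk I (pointOf (ofValid (R := R) hc) p) = _
    rw [pointOf_ofValid]
    rfl

/-- Azumaya structures lift in henselian pairs. -/
theorem exists_valid_henselian {A : Type u} [CommRing A] (I : Ideal A) [HenselianRing A I] (o : ι)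
    (c₀ : ι × ι × ι → A ⧸ I) (h₀ : Valid o c₀) :
    ∃ c, Valid o c ∧ Ideal.Quotient.mk I ∘ c = c₀ := by
  obtain ⟨τ, hτ⟩ := H9Hens.exists_algHom_lift_smooth (A := A) (I := I) (ofValid (R := A) h₀)
  refine ⟨pointOf τ, pointOf_valid τ, ?_⟩
  rw [← pointOf_ofValid (R := A) h₀, ← hτ]
  rfl

end Groth.Agent.H18AzLift
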